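import Cfsg.Agent.Lib.U6Large.Shape.Weights
import Cfsg.Agent.Lib.U6Large.Data

/-! Coordinates in eight bits from a hyperbolic basis, and facts on weight spaces of order four. -/

set_option autoImplicit false
set_option linter.unusedSectionVars false
set_option linter.style.longLine false

namespace CfsgLib.U6Large.Shape

open CfsgLib.SpFourThree CfsgLib.U6Large CfsgLib.ThreeTrans.UCent
open CfsgLib.ThreeTrans.UCent.W (mk')

universe u

/-- A truth value in the prime field. -/
def bz (b : Bool) : ZMod 2 := cond b 1 0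

theorem bz_xor : ∀ a b : Bool, bz (a ^^ b) = bz a + bz b := by decide

theorem bz_inj : ∀ a b : Bool, bz a = bz b → a = b := by decide

/-- The unit vectors. -/
def unit (i : Fin 8) : W := mk' (2 ^ i.val)

theorem mk'_add (m n : ℕ) : mk' m + mk' n = mk' (m ^^^ n) := W.ext' (by
  rw [W.add_code]
  show (m % 256) ^^^ (n % 256) = (m ^^^ n) % 256
  exact (Nat.xor_mod_two_pow (a := m) (b := n) (n := 8)).symm)

theorem mapW_add (im : List ℕ) (x y : W) : mapW im (x + y) = mapW im x + mapW im y := by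
  have key : ∀ (l : List ℕ) (a b r s : ℕ),
      l.foldl (fun t i => if (a ^^^ b).testBit i then Nat.xor t (im.getD i 0) else t) (r ^^^ s) =
        l.foldl (fun t i => if a.testBit i then Nat.xor t (im.getD i 0) else t) r ^^^
          l.foldl (fun t i => if b.testBit i then Nat.xor t (im.getD i 0) else t) s := by
    intro l a b
    induction l with
    | nil => intro r s; rfl
    | cons i l ih =>
      intro r s
      simp only [List.foldl_cons]
      rw [← ih]
      congr 1
      show (if (a ^^^ b).testBit i then (r ^^^ s) ^^^ im.getD i 0 else r ^^^ s) =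
        (if a.testBit i then r ^^^ im.getD i 0 else r) ^^^ (if b.testBit i then s ^^^ im.getD i 0 else s)
      rw [Nat.testBit_xor]
      cases a.testBit i <;> cases b.testBit i <;> simp only [Bool.false_eq_true, if_true, if_false, Bool.xor_false,
        Bool.xor_true, Bool.not_false, Bool.not_true]
      · rw [Nat.xor_assoc]
      · rw [Nat.xor_assoc r, Nat.xor_comm s, ← Nat.xor_assoc]
      · rw [Nat.xor_assoc r (im.getD i 0), ← Nat.xor_assoc (im.getD i 0) s, Nat.xor_comm (im.getD i 0) s,
          Nat.xor_assoc s, Nat.xor_self, Nat.xor_zero]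
  have h := key (List.range 8) x.code.val y.code.val 0 0
  rw [Nat.xor_self, ← W.add_code] at h
  rw [mapW, mapW, mapW, mk'_add, h]

theorem mapW_unit (c : Fin 8 → ℕ) (i : Fin 8) : mapW (List.ofFn c) (unit i) = mk' (c i) := by
  have h : ∀ (i : Fin 8) (j : ℕ), j < 8 → (unit i).code.val.testBit j = decide (j = i.val) := by
    decide +kernel
  have key : ∀ (l : List ℕ) (r : ℕ), (∀ j ∈ l, j < 8) → l.Nodup →
      l.foldl (fun t j => if (unit i).code.val.testBit j then Nat.xor t ((List.ofFn c).getD j 0) else t) r =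
        if i.val ∈ l then r ^^^ c i else r := by
    intro l
    induction l with
    | nil => intro r _ _; simp
    | cons j l ih =>
      intro r hl hn
      rw [List.nodup_cons] at hn
      rw [List.foldl_cons, ih _ (fun m hm => hl m (List.mem_cons_of_mem j hm)) hn.2, h i j (hl j List.mem_cons_self)]
      by_cases hj : j = i.val
      · subst hj
        simp [hn.1, List.getD_eq_getElem?_getD]
        fin_cases i <;> rfl
      · simp [hj, Ne.symm hj]
  have h2 := key (List.range 8) 0 (fun j hj => List.mem_range.1 hj) List.nodup_range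
  rw [if_pos (List.mem_range.2 i.2), Nat.zero_xor] at h2
  rw [mapW, h2]

theorem unit_sep : all1 (fun w => ((List.range 8).any fun j => bt w (mk' (2 ^ j))) || w == 0) = true := by
  decide +kernel

theorem pair_bt : ∀ i j : Fin 8, bt (unit i) (unit j) = decide (i.val / 2 = j.val / 2 ∧ i ≠ j) := by decide +kernel

theorem low_sep : all1 (fun w => ((List.range 6).any fun j => bt w (mk' (2 ^ j))) || w.code.val % 64 == 0) = true := by
  decide +kernel

theorem high_sep : all1 (fun w => bt w (mk' 64) || bt w (mk' 128) || Nat.ble (w.code.val + 1) 64) = true := by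
  decide +kernel

namespace Rep

variable {V : Type u} [AddCommGroup V] (R : Rep V)
include R

/-- The combination of a basis. -/
def bsum (b : Fin 8 → V) (w : W) : V := (fun _ => ∑ i : Fin 8, if w.code.val.testBit i.val then b i else 0) R

theorem bsum_add (b : Fin 8 → V) (x y : W) : R.bsum b (x + y) = R.bsum b x + R.bsum b y := by
  simp only [bsum, ← Finset.sum_add_distrib]
  refine Finset.sum_congr rfl fun i _ => ?_
  rw [W.add_code, Nat.testBit_xor]
  cases x.code.val.testBit i.val <;> cases y.code.val.testBit i.val <;> simp [R.two]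

theorem bsum_zero (b : Fin 8 → V) : R.bsum b 0 = 0 := by
  have h := R.bsum_add b 0 0
  rw [add_zero] at h
  exact left_eq_add.1 h

theorem bsum_unit (b : Fin 8 → V) (i : Fin 8) : R.bsum b (unit i) = b i := by
  have h : ∀ i j : Fin 8, (unit i).code.val.testBit j.val = decide (j = i) := by decide +kernel
  simp [bsum, h]

theorem bsum_pow (b : Fin 8 → V) (j : ℕ) (h : j < 8) : R.bsum b (mk' (2 ^ j)) = b ⟨j, h⟩ := R.bsum_unit b ⟨j, h⟩

theorem additive_ext (b : Fin 8 → V) (g : Cfsg.PSp 2 (ZMod 3)) (im : List ℕ)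
    (h : ∀ i, R.ρ g (b i) = R.bsum b (mapW im (unit i))) (w : W) : R.ρ g (R.bsum b w) = R.bsum b (mapW im w) := by
  refine bits_induction (P := fun w => R.ρ g (R.bsum b w) = R.bsum b (mapW im w)) ?_ (fun x y hx hy => ?_)
    (fun j hj => ?_) w
  · have h0 : mapW im 0 = 0 := by
      have := mapW_add im 0 0
      rw [add_zero] at this
      exact left_eq_add.1 this
    rw [h0, R.bsum_zero, map_zero]
  · rw [R.bsum_add, map_add, hx, hy, mapW_add, R.bsum_add]
  · rw [R.bsum_pow b j hj]
    exact h ⟨j, hj⟩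

theorem B_bsum (b : Fin 8 → V) (hB : ∀ i j, R.B (b i) (b j) = bz (bt (unit i) (unit j))) (x y : W) :
    R.B (R.bsum b x) (R.bsum b y) = bz (bt x y) := by
  refine bits_induction (P := fun x => R.B (R.bsum b x) (R.bsum b y) = bz (bt x y)) ?_ (fun p q hp hq => ?_)
    (fun i hi => ?_) x
  · rw [R.bsum_zero, R.B_zero, bt_zero]; rfl
  · rw [R.bsum_add, R.B_add, hp, hq, bt_add, bz_xor]
  · rw [R.bsum_pow b i hi]
    refine bits_induction (P := fun y => R.B (b ⟨i, hi⟩) (R.bsum b y) = bz (bt (mk' (2 ^ i)) y)) ?_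
      (fun p q hp hq => ?_) (fun j hj => ?_) y
    · rw [R.bsum_zero, R.B_symm, R.B_zero, bt_zero']; rfl
    · rw [R.bsum_add, R.B_add', hp, hq, bt_add', bz_xor]
    · rw [R.bsum_pow b j hj]
      exact hB ⟨i, hi⟩ ⟨j, hj⟩

theorem bsum_bij (b : Fin 8 → V) (hB : ∀ i j, R.B (b i) (b j) = bz (bt (unit i) (unit j))) :
    Function.Bijective (R.bsum b) := by
  have := R.finite
  have inj : Function.Injective (R.bsum b) := by
    intro x y e
    have h0 : R.bsum b (x + y) = 0 := by rw [R.bsum_add, e, R.two]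
    have hs := of_all1 unit_sep (x + y)
    have hn : ∀ j, bt (x + y) (mk' (2 ^ j)) = false := fun j => bz_inj _ _ (by
      rw [← R.B_bsum b hB, h0, R.B_zero]; rfl)
    have hany : ((List.range 8).any fun j => bt (x + y) (mk' (2 ^ j))) = false :=
      List.any_eq_false.2 fun j _ => by simp [hn j]
    rw [hany, Bool.false_or, beq_iff_eq] at hs
    exact W.add_eq_zero'.1 hs
  exact (Nat.bijective_iff_injective_and_card _).2 ⟨inj, by rw [W.card_eq, R.card]⟩

/-- The coordinates. -/
noncomputable def coord (b : Fin 8 → V) (hB : ∀ i j, R.B (b i) (b j) = bz (bt (unit i) (unit j))) : V ≃ W :=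
  (Equiv.ofBijective _ (R.bsum_bij b hB)).symm

theorem bsum_coord (b : Fin 8 → V) (hB : ∀ i j, R.B (b i) (b j) = bz (bt (unit i) (unit j))) (v : V) :
    R.bsum b (R.coord b hB v) = v := (Equiv.ofBijective _ (R.bsum_bij b hB)).apply_symm_apply v

theorem coord_bsum (b : Fin 8 → V) (hB : ∀ i j, R.B (b i) (b j) = bz (bt (unit i) (unit j))) (w : W) :
    R.coord b hB (R.bsum b w) = w := (Equiv.ofBijective _ (R.bsum_bij b hB)).symm_apply_apply w

theorem coord_add (b : Fin 8 → V) (hB : ∀ i j, R.B (b i) (b j) = bz (bt (unit i) (unit j))) (v w : V) :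
    R.coord b hB (v + w) = R.coord b hB v + R.coord b hB w := by
  apply (R.bsum_bij b hB).1
  rw [R.bsum_coord, R.bsum_add, R.bsum_coord, R.bsum_coord]

theorem B_coord (b : Fin 8 → V) (hB : ∀ i j, R.B (b i) (b j) = bz (bt (unit i) (unit j))) (v w : V) :
    R.B v w = bz (bt (R.coord b hB v) (R.coord b hB w)) := by
  rw [← R.B_bsum b hB, R.bsum_coord, R.bsum_coord]

/-- The quadratic form on the span of the first unit vectors. -/
theorem q_bsum (b : Fin 8 → V) (hB : ∀ i j, R.B (b i) (b j) = bz (bt (unit i) (unit j))) (n : ℕ) (hn : n ≤ 8)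
    (hq : ∀ i : Fin 8, i.val < n → R.q (b i) = bz (qW (unit i))) (w : W) (hw : w.code.val < 2 ^ n) :
    R.q (R.bsum b w) = bz (qW w) := by
  induction n generalizing w with
  | zero =>
    have : w = 0 := W.ext' (by rw [pow_zero] at hw; show w.code.val = 0; omega)
    subst this
    rw [R.bsum_zero, R.q_zero, qW_zero]; rfl
  | succ n ih =>
    have ih' := ih (by omega) fun i hi => hq i (by omega)
    by_cases h : w.code.val < 2 ^ n
    · exact ih' w h
    have hw2 : (w + mk' (2 ^ n)).code.val < 2 ^ n := by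
      rw [W.add_code, W.mk'_code (lt_of_lt_of_le (Nat.pow_lt_pow_right (by norm_num) (Nat.lt_succ_self n))
        (Nat.pow_le_pow_right (by norm_num) hn))]
      refine Nat.lt_pow_two_of_testBit _ fun j hj => ?_
      rw [Nat.testBit_xor, Nat.testBit_two_pow]
      rcases Nat.eq_or_lt_of_le hj with rfl | hlt
      · have : w.code.val.testBit n = true := by
          obtain ⟨j', hj', hb⟩ := Nat.exists_ge_and_testBit_of_ge_two_pow (Nat.le_of_not_lt h)
          rcases Nat.eq_or_lt_of_le hj' with rfl | hlt'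
          · exact hb
          · rw [Nat.testBit_lt_two_pow (lt_of_lt_of_le hw (Nat.pow_le_pow_right (by norm_num) hlt'))] at hb
            exact absurd hb (by simp)
        simp [this]
      · rw [Nat.testBit_lt_two_pow (lt_of_lt_of_le hw (Nat.pow_le_pow_right (by norm_num) hlt))]
        simp [ne_of_lt hlt]
    have e : w = (w + mk' (2 ^ n)) + mk' (2 ^ n) := by rw [add_assoc, W.add_self, add_zero]
    generalize w + mk' (2 ^ n) = w' at hw2 e
    rw [e, R.bsum_add, R.q_add, ih' _ hw2, R.B_bsum b hB, R.bsum_pow b n (by omega), hq ⟨n, by omega⟩ (Nat.lt_succ_self n),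
      qW_add, bz_xor, bz_xor]
    rfl

/-- A hyperbolic basis out of four planes in different weight spaces. -/
theorem hB_of_planes (ix : Fin 4 → Fin 14) (hix : Function.Injective ix) (b : Fin 8 → V)
    (hmem : ∀ i : Fin 8, b i ∈ R.L (ix ⟨i.val / 2, by omega⟩))
    (hpair : ∀ i j : Fin 8, i.val / 2 = j.val / 2 → i.val < j.val → R.B (b i) (b j) = 1) (i j : Fin 8) :
    R.B (b i) (b j) = bz (bt (unit i) (unit j)) := by
  rw [pair_bt]
  by_cases h : i.val / 2 = j.val / 2
  · rcases lt_trichotomy i.val j.val with hl | hl | hl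
    · rw [hpair i j h hl, decide_eq_true (⟨h, fun e => by rw [e] at hl; omega⟩ : i.val / 2 = j.val / 2 ∧ i ≠ j)]; rfl
    · obtain rfl := Fin.ext hl
      rw [R.B_self, decide_eq_false (fun k : i.val / 2 = i.val / 2 ∧ i ≠ i => k.2 rfl)]; rfl
    · rw [R.B_symm, hpair j i h.symm hl,
        decide_eq_true (⟨h, fun e => by rw [e] at hl; omega⟩ : i.val / 2 = j.val / 2 ∧ i ≠ j)]; rfl
  · rw [R.orth (fun e => h (congrArg Fin.val (hix e))) (hmem i) (hmem j),
      decide_eq_false (fun k : i.val / 2 = j.val / 2 ∧ i ≠ j => h k.1)]; rfl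

/-! ### Weight spaces of order four -/

theorem sum_any {i : Fin 14} (hi : i.val ≠ 13) {v : V} (hv : v ∈ R.L i) {x : X} (hx : dot i x ≠ 0) :
    v + R.ρ (aX x) v + R.ρ (aX (x + x)) v = 0 := by
  have h := R.sum_three hi hv
  rcases (show ∀ a : ZMod 3, a ≠ 0 → a = 1 ∨ a = 1 + 1 by decide) _ hx with e | e
  · rwa [R.act_eq hv (x := x) (y := gv i) (by rw [dot_gv i hi, e]),
      R.act_eq hv (x := x + x) (y := gv i + gv i) (by rw [dot_add, dot_add, dot_gv i hi, e])]
  · rwa [R.act_eq hv (x := x) (y := gv i + gv i) (by rw [dot_add, dot_gv i hi, e]),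
      R.act_eq hv (x := x + x) (y := gv i) (by rw [dot_add, dot_gv i hi, e]; decide), add_right_comm]

theorem third {i : Fin 14} (hi : i.val ≠ 13) {v : V} (hv : v ∈ R.L i) {x : X} (hx : dot i x ≠ 0) :
    R.ρ (aX (x + x)) v = v + R.ρ (aX x) v := by
  have h := R.sum_any hi hv hx
  rw [add_eq_zero_iff_neg_eq, neg_eq_of_add_eq_zero_left (R.two (v + R.ρ (aX x) v))] at h
  exact h.symm

theorem plane_elems {i : Fin 14} (hi : i.val ≠ 13) (h4 : Nat.card (R.L i) = 4) {v : V} (hv : v ∈ R.L i)
    (h0 : v ≠ 0) {x : X} (hx : dot i x ≠ 0) {w : V} (hw : w ∈ R.L i) :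
    w = 0 ∨ w = v ∨ w = R.ρ (aX x) v ∨ w = v + R.ρ (aX x) v := by
  have := R.finite
  have hv1 := R.act_mem x hv
  have a1 := R.act_ne hi hv h0 hx
  have hw0 : R.ρ (aX x) v ≠ 0 := fun e => h0 (R.ρ_inj (aX x) (by rw [e, map_zero]))
  have h12 : v + R.ρ (aX x) v ≠ 0 := fun e => a1 (by
    rw [add_eq_zero_iff_neg_eq, neg_eq_of_add_eq_zero_left (R.two v)] at e
    exact e.symm)
  let f : Fin 4 → R.L i := ![0, ⟨v, hv⟩, ⟨_, hv1⟩, ⟨_, add_mem hv hv1⟩]
  have hf : Function.Injective f := by
    intro a b e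
    fin_cases a <;> fin_cases b <;>
      simp [f, Subtype.ext_iff, h0, Ne.symm h0, hw0, Ne.symm hw0, h12, Ne.symm h12, a1, Ne.symm a1] at e ⊢
  obtain ⟨a, ha⟩ := ((Nat.bijective_iff_injective_and_card f).2 ⟨hf, by rw [Nat.card_fin, h4]⟩).2 ⟨w, hw⟩
  have e := congrArg Subtype.val ha
  fin_cases a <;> simp [f] at e <;> simp [← e]

theorem B_plane {i : Fin 14} (hi : i.val ≠ 13) (h4 : Nat.card (R.L i) = 4) {v : V} (hv : v ∈ R.L i)
    (h0 : v ≠ 0) {x : X} (hx : dot i x ≠ 0) : R.B v (R.ρ (aX x) v) = 1 := by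
  rcases (show ∀ a : ZMod 2, a = 0 ∨ a = 1 by decide) (R.B v (R.ρ (aX x) v)) with e | e
  · exfalso
    refine h0 (R.B_nd v fun w => ?_)
    rw [← R.P_sum w, R.B_symm, R.B_sum]
    refine Finset.sum_eq_zero fun j _ => ?_
    rw [R.B_symm]
    by_cases hj : i = j
    · subst hj
      rcases R.plane_elems hi h4 hv h0 hx (R.P_mem i w) with k | k | k | k <;> rw [k]
      · rw [R.B_symm, R.B_zero]
      · exact R.B_self v
      · exact e
      · rw [R.B_add', R.B_self, e, add_zero]
    · exact R.orth hj hv (R.P_mem j w)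
  · exact e

theorem q_plane {i : Fin 14} (hi : i.val ≠ 13) (h4 : Nat.card (R.L i) = 4) {v : V} (hv : v ∈ R.L i)
    (h0 : v ≠ 0) : R.q v = 1 := by
  have hx : dot i (gv i) ≠ 0 := by rw [dot_gv i hi]; decide
  have h := congrArg R.q (R.third hi hv hx)
  rw [R.q_inv, R.q_add, R.q_inv, R.B_plane hi h4 hv h0 hx] at h
  rwa [show R.q v + R.q v = 0 from (by decide : ∀ a : ZMod 2, a + a = 0) _, zero_add] at h

end Rep

end CfsgLib.U6Large.Shape
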