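import Cfsg.Agent.Lib.U6Large.SpThree

/-! The elementary abelian subgroup of order 27 with its monomial normaliser, and the fourteen weights. -/

set_option autoImplicit false
set_option maxRecDepth 100000
set_option maxHeartbeats 1000000
set_option linter.style.longLine false

namespace CfsgLib.U6Large.Shape

open CfsgLib.SpFourThree CfsgLib.U6Large

/-- Exponents. -/
abbrev X := ZMod 3 × ZMod 3 × ZMod 3

/-- The word of an exponent vector. -/
def aW (x : X) : List ℕ :=
  List.replicate x.1.val 0 ++ List.replicate x.2.1.val 1 ++ List.replicate x.2.2.val 2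

/-- The elements of the abelian subgroup. -/
noncomputable def aX (x : X) : Cfsg.PSp 2 (ZMod 3) := ev (aW x)

theorem aX_check : ∀ x y : X, eqC (wordC (aW x ++ aW y)) (wordC (aW (x + y))) = true := by decide +kernel

theorem aX_add (x y : X) : aX (x + y) = aX x * aX y := by
  rw [aX, aX, aX, ← ev_append, ev_eq (aX_check x y)]

theorem aX_zero : aX 0 = 1 := ev_nil

theorem aX_gen (j : ℕ) (h : j < 3) : aX ([(1, 0, 0), (0, 1, 0), (0, 0, 1)].getD j (0, 0, 0)) = ev [j] := by
  interval_cases j <;> rfl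

/-- The action of the three monomial generators on exponents. -/
def cm : Fin 3 → X → X
  | 0, x => (x.1 + 2 * x.2.1 + x.2.2, 2 * x.2.1 + 2 * x.2.2, x.2.2)
  | 1, x => (x.1, 2 * x.2.1, x.2.2)
  | 2, x => (x.1, x.1 + 2 * x.2.1, x.1 + x.2.1 + x.2.2)

theorem cm_check : ∀ (g : Fin 3) (x : X),
    eqC (wordC ((3 + g.val) :: aW x)) (wordC (aW (cm g x) ++ [3 + g.val])) = true ∧ cm g (cm g x) = x := by
  decide +kernel

theorem cm_conj (g : Fin 3) (x : X) : ev [3 + g.val] * aX x = aX (cm g x) * ev [3 + g.val] := by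
  rw [aX, aX, ← ev_append, ← ev_append]
  exact ev_eq (cm_check g x).1

theorem cm_cm (g : Fin 3) (x : X) : cm g (cm g x) = x := (cm_check g x).2

theorem mono_sq : ∀ g : Fin 3, eqC (wordC [3 + g.val, 3 + g.val]) (wordC []) = true := by decide +kernel

theorem mono_mul (g : Fin 3) : ev [3 + g.val] * ev [3 + g.val] = 1 := by
  rw [← ev_append, ← ev_nil]
  exact ev_eq (mono_sq g)

/-- The weights. -/
def wts : List X := [(1, 0, 0), (1, 2, 1), (1, 1, 1), (0, 0, 1), (0, 1, 0), (0, 1, 1), (1, 2, 0), (0, 1, 2),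
  (1, 0, 2), (1, 1, 0), (1, 0, 1), (1, 2, 2), (1, 1, 2), (0, 0, 0)]

/-- The value of a weight. -/
def dot (i : Fin 14) (x : X) : ZMod 3 :=
  (wts.getD i.val 0).1 * x.1 + (wts.getD i.val 0).2.1 * x.2.1 + (wts.getD i.val 0).2.2 * x.2.2

theorem dot_add (i : Fin 14) (x y : X) : dot i (x + y) = dot i x + dot i y := by
  simp only [dot, Prod.fst_add, Prod.snd_add]; ring

theorem dot_sub (i : Fin 14) (x y : X) : dot i (x - y) = dot i x - dot i y := by
  simp only [dot, Prod.fst_sub, Prod.snd_sub]; ring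

/-- The coefficients of the projection of a weight. -/
def ind (i : Fin 14) (x : X) : ℕ := if i.val = 13 then 1 else if dot i x = 0 then 0 else 1

theorem ind_mul : ∀ (i j : Fin 14) (w : X),
    (∑ x, ind i x * ind j (w - x)) % 2 = if i = j then ind i w % 2 else 0 := by decide +kernel

theorem ind_sum : ∀ x : X, (∑ i, ind i x) % 2 = if x = 0 then 1 else 0 := by decide +kernel

theorem ind_symm : ∀ (i : Fin 14) (x : X), ind i (-x) = ind i x := by decide +kernel

/-- The permutations of the weights. -/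
def pm (g : Fin 3) (i : Fin 14) : Fin 14 :=
  ([[1, 0, 2, 3, 5, 4, 8, 7, 6, 9, 11, 10, 12, 13], [0, 2, 1, 3, 4, 7, 9, 5, 8, 6, 10, 12, 11, 13],
    [0, 1, 3, 2, 6, 8, 4, 7, 5, 9, 11, 10, 12, 13]] : List (List (Fin 14))).getD g.val [] |>.getD i.val 0

theorem ind_pm : ∀ (g : Fin 3) (i : Fin 14) (x : X), ind (pm g i) x = ind i (cm g x) := by decide +kernel

theorem pm_pm : ∀ (g : Fin 3) (i : Fin 14), pm g (pm g i) = i := by decide +kernel

/-- Exponents where a weight is one. -/
def gv (i : Fin 14) : X := if dot i (1, 0, 0) = 1 then (1, 0, 0) else if dot i (0, 1, 0) = 1 then (0, 1, 0) else (0, 0, 1)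

theorem dot_gv : ∀ i : Fin 14, i.val ≠ 13 → dot i (gv i) = 1 := by decide +kernel

theorem aX_ne : ∀ x : X, x ≠ 0 → eqC (wordC (aW x)) oneC = false := by decide +kernel

theorem aX_ne_one {x : X} (h : x ≠ 0) : aX x ≠ 1 := fun e => by
  have h2 := eqC_of_ev (l := aW x) (m := []) (e.trans ev_nil.symm)
  have h3 := aX_ne x h
  rw [show wordC [] = oneC from rfl] at h2
  rw [h2] at h3
  exact Bool.noConfusion h3

end CfsgLib.U6Large.Shape
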