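import Cfsg.Agent.Lib.U6Large.Shape.Frame

/-! Three planes and a fixed space of order four: the orthogonal shape. -/

set_option autoImplicit false
set_option linter.unusedSectionVars false
set_option maxRecDepth 100000
set_option linter.style.longLine false

namespace CfsgLib.U6Large.Shape

open CfsgLib.SpFourThree CfsgLib.U6Large CfsgLib.ThreeTrans.UCent
open CfsgLib.ThreeTrans.UCent.W (mk')

universe u

/-- The weight of a slot. -/
def jx (k : Fin 4) : Fin 14 := ⟨10 + k.val, by omega⟩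

theorem jx_facts : (∀ k : Fin 4, k.val < 3 → dot (jx k) (1, 0, 0) ≠ 0) ∧ (∀ g : Fin 3, pm g 13 = 13) := by
  decide +kernel

theorem six_zero : eqC (wordC [6, 0]) (wordC [0, 6]) = true := by decide +kernel

theorem high_cases : all1 (fun w => !(w.code.val % 64 == 0) || w == 0 || w == mk' 64 || w == mk' 128 ||
    w == mk' 64 + mk' 128) = true := by decide +kernel

namespace Rep

variable {V : Type u} [AddCommGroup V] (R : Rep V)
include R

theorem minus (hc : ∀ i : Fin 14, (10 ≤ i.val → Nat.card (R.L i) = 4) ∧ (i.val < 10 → Nat.card (R.L i) = 1)) :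
    ∃ e : V ≃ W, (∀ v w, e (v + w) = e v + e w) ∧ (∀ v w, R.B v w = bz (bt (e v) (e w))) ∧
      (∀ v, (e v).code.val < 64 → R.q v = bz (qW (e v))) ∧
      (∀ v, (e v).code.val % 64 = 0 → ∀ y, R.ρ y v = v) ∧
      ∀ v, (∀ y, R.ρ y v = v) → (e v).code.val % 64 = 0 := by
  have := R.finite
  have hj4 : ∀ k, Nat.card (R.L (jx k)) = 4 := fun k => (hc _).1 (by show 10 ≤ 10 + k.val; omega)
  have hj13 : ∀ k : Fin 4, k.val < 3 → (jx k).val ≠ 13 := fun k hk => by show 10 + k.val ≠ 13; omega
  have hne : ∀ k, ∃ v ∈ R.L (jx k), v ≠ (0 : V) := fun k => by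
    by_contra hn
    push Not at hn
    have : Nat.card (R.L (jx k)) = 1 := Nat.card_eq_one_iff_unique.2
      ⟨⟨fun a b => Subtype.ext ((hn a a.2).trans (hn b b.2).symm)⟩, ⟨0⟩⟩
    rw [hj4 k] at this
    omega
  choose u hum hu0 using hne
  have h10 : ∀ i : Fin 14, i.val < 10 → ∀ v ∈ R.L i, v = 0 := fun i hi v hv => by
    have := (Nat.card_eq_one_iff_unique.1 ((hc i).2 hi)).1
    exact congrArg Subtype.val (Subsingleton.elim (⟨v, hv⟩ : R.L i) 0)
  -- a partner in the fixed space
  obtain ⟨c2, hc2, hc2B⟩ : ∃ c ∈ R.L 13, R.B (u 3) c = 1 := by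
    obtain ⟨w, hw⟩ : ∃ w, R.B (u 3) w ≠ 0 := by
      by_contra hn
      push Not at hn
      exact hu0 3 (R.B_nd _ hn)
    refine ⟨R.P 13 w, R.P_mem 13 w, ?_⟩
    have e : R.B (u 3) w = R.B (u 3) (R.P 13 w) := by
      conv_lhs => rw [← R.P_sum w, R.B_symm, R.B_sum]
      rw [Finset.sum_eq_single (13 : Fin 14) (fun j _ hj => R.orth hj (R.P_mem j w) (hum 3)) (by simp), R.B_symm]
    rw [← e]
    exact (show ∀ a : ZMod 2, a ≠ 0 → a = 1 by decide) _ hw
  let b : Fin 8 → V := fun i => if i.val % 2 = 0 then u ⟨i.val / 2, by omega⟩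
    else if i.val = 7 then c2 else R.ρ (aX (gv (jx ⟨i.val / 2, by omega⟩))) (u ⟨i.val / 2, by omega⟩)
  have bmem : ∀ i, b i ∈ R.L (jx ⟨i.val / 2, by omega⟩) := by
    intro i
    simp only [b]
    by_cases h : i.val % 2 = 0
    · rw [if_pos h]; exact hum _
    by_cases h7 : i.val = 7
    · rw [if_neg h, if_pos h7, show jx ⟨i.val / 2, _⟩ = 13 from Fin.ext (by show 10 + i.val / 2 = 13; omega)]
      exact hc2
    · rw [if_neg h, if_neg h7]; exact R.act_mem _ (hum _)
  have hgv : ∀ k : Fin 4, k.val < 3 → dot (jx k) (gv (jx k)) ≠ 0 := fun k hk => by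
    rw [dot_gv _ (hj13 k hk)]; decide
  have hB := R.hB_of_planes jx (fun a c e => Fin.ext (by
    have := congrArg Fin.val e
    change 10 + a.val = 10 + c.val at this
    omega)) b bmem (fun i j h hl => by
    have hp : (⟨i.val / 2, by omega⟩ : Fin 4) = ⟨j.val / 2, by omega⟩ := Fin.ext h
    simp only [b]
    rw [if_pos (show i.val % 2 = 0 by omega), if_neg (show ¬ j.val % 2 = 0 by omega), ← hp]
    by_cases h7 : j.val = 7
    · rw [if_pos h7, show (⟨i.val / 2, by omega⟩ : Fin 4) = 3 from Fin.ext (by show i.val / 2 = 3; omega)]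
      exact hc2B
    · rw [if_neg h7]
      exact R.B_plane (hj13 _ (by show i.val / 2 < 3; omega)) (hj4 _) (hum _) (hu0 _) (hgv _ (by show i.val / 2 < 3; omega)))
  -- the fixed space is fixed by the whole group
  have hinv : ∀ j : Fin 7, ∀ v ∈ R.L 13, R.ρ (ev [j.val]) v ∈ R.L 13 := by
    intro j v hv
    by_cases h : j.val < 3
    · rw [← aX_gen j.val h]; exact R.act_mem _ hv
    by_cases h6 : j.val < 6
    · have := R.mono_mem ⟨j.val - 3, by omega⟩ hv
      rw [jx_facts.2] at this
      rwa [show 3 + (j.val - 3) = j.val by omega] at this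
    rw [show j.val = 6 by omega]
    have hfx : R.ρ (aX ((1, 0, 0) : X)) (R.ρ (ev [6]) v) = R.ρ (ev [6]) v := by
      have he : aX ((1, 0, 0) : X) = ev [0] := aX_gen 0 (by norm_num)
      rw [he, ← R.ρ_mul, ← ev_append]
      show R.ρ (ev [0, 6]) v = _
      rw [← ev_eq six_zero, show ([6, 0] : List ℕ) = [6] ++ [0] from rfl, ev_append, R.ρ_mul, ← he,
        R.act_triv hv (by decide)]
    have e := R.P_sum (R.ρ (ev [6]) v)
    rw [Finset.sum_eq_single (13 : Fin 14) (fun i _ hi => ?_) (by simp)] at e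
    · rw [← e]; exact R.P_mem _ _
    · by_cases hi10 : i.val < 10
      · exact h10 i hi10 _ (R.P_mem i _)
      · have hi' : i.val ≠ 13 := fun k => hi (Fin.ext k)
        refine R.eq_zero_of_fixed hi' ?_ hfx
        have := jx_facts.1 ⟨i.val - 10, by omega⟩ (by show i.val - 10 < 3; omega)
        rwa [show jx ⟨i.val - 10, _⟩ = i from Fin.ext (by show 10 + (i.val - 10) = i.val; omega)] at this
  let S : Subgroup (Cfsg.PSp 2 (ZMod 3)) :=
    { carrier := {y | ∀ v, R.ρ y v ∈ R.L 13 ↔ v ∈ R.L 13}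
      one_mem' := fun v => by rw [R.ρ_one]
      mul_mem' := fun {x y} hx hy v => by rw [R.ρ_mul, hx, hy]
      inv_mem' := fun {x} hx v => by rw [← hx, ← R.ρ_mul, mul_inv_cancel, R.ρ_one] }
  have htop : ∀ y, y ∈ S := by
    intro y
    have hle : Subgroup.closure (Set.range fun j : Fin 7 => ev [j.val]) ≤ S := by
      refine (Subgroup.closure_le S).2 ?_
      rintro _ ⟨j, rfl⟩ v
      refine ⟨fun h => ?_, hinv j v⟩
      let φ : R.L 13 → R.L 13 := fun w => ⟨_, hinv j w w.2⟩
      obtain ⟨w, hw⟩ := Finite.injective_iff_surjective.1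
        (fun a b e => Subtype.ext (R.ρ_inj _ (congrArg Subtype.val e)) : Function.Injective φ) ⟨_, h⟩
      rw [← R.ρ_inj _ (congrArg Subtype.val hw)]
      exact w.2
    exact hle (gen_top.symm ▸ Subgroup.mem_top y)
  let act : Cfsg.PSp 2 (ZMod 3) →* Equiv.Perm (R.L 13) :=
    { toFun := fun y => ⟨fun v => ⟨R.ρ y v, (htop y v).2 v.2⟩, fun v => ⟨R.ρ y⁻¹ v, (htop y⁻¹ v).2 v.2⟩,
        fun v => Subtype.ext (by show R.ρ y⁻¹ (R.ρ y v) = v; rw [← R.ρ_mul, inv_mul_cancel, R.ρ_one]),
        fun v => Subtype.ext (by show R.ρ y (R.ρ y⁻¹ v) = v; rw [← R.ρ_mul, mul_inv_cancel, R.ρ_one])⟩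
      map_one' := Equiv.ext fun v => Subtype.ext (R.ρ_one v)
      map_mul' := fun x y => Equiv.ext fun v => Subtype.ext (R.ρ_mul x y v) }
  have hfix : ∀ v ∈ R.L 13, ∀ y, R.ρ y v = v := by
    have := target_simple
    rcases (MonoidHom.normal_ker act).eq_bot_or_eq_top with h | h
    · exfalso
      have hcard := Nat.card_le_card_of_injective act ((MonoidHom.ker_eq_bot_iff act).1 h)
      rw [target_card, Nat.card_perm, (hc 13).1 (by decide)] at hcard
      norm_num [Nat.factorial] at hcard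
    · intro v hv y
      have e : act y = 1 := MonoidHom.mem_ker.1 (h ▸ Subgroup.mem_top y)
      exact congrArg Subtype.val (Equiv.ext_iff.1 e ⟨v, hv⟩)
  refine ⟨R.coord b hB, R.coord_add b hB, R.B_coord b hB, fun v hv => ?_, fun v hv => ?_, fun v hv => ?_⟩
  · conv_lhs => rw [← R.bsum_coord b hB v]
    refine R.q_bsum b hB 6 (by norm_num) (fun i hi => ?_) _ hv
    rw [show qW (unit i) = true by revert i; decide +kernel]
    simp only [b]
    by_cases h : i.val % 2 = 0
    · rw [if_pos h]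
      exact R.q_plane (hj13 _ (by show i.val / 2 < 3; omega)) (hj4 _) (hum _) (hu0 _)
    · rw [if_neg h, if_neg (by omega), R.q_inv]
      exact R.q_plane (hj13 _ (by show i.val / 2 < 3; omega)) (hj4 _) (hum _) (hu0 _)
  · refine hfix v ?_
    have h := of_all1 high_cases (R.coord b hB v)
    simp only [hv, beq_self_eq_true, Bool.not_true, Bool.false_or, Bool.or_eq_true, beq_iff_eq] at h
    rw [← R.bsum_coord b hB v]
    have b6 : R.bsum b (mk' 64) ∈ R.L 13 := (R.bsum_pow b 6 (by norm_num)).symm ▸ bmem 6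
    have b7 : R.bsum b (mk' 128) ∈ R.L 13 := (R.bsum_pow b 7 (by norm_num)).symm ▸ bmem 7
    rcases h with ((e | e) | e) | e <;> rw [e]
    · rw [R.bsum_zero]; exact zero_mem _
    · exact b6
    · exact b7
    · rw [R.bsum_add]; exact add_mem b6 b7
  · have hm : v ∈ R.L 13 := R.fixed_mem fun x => hv _
    have h := of_all1 low_sep (R.coord b hB v)
    have hz : ∀ j : Fin 8, j.val < 6 → bt (R.coord b hB v) (unit j) = false := fun j hj => by
      apply bz_inj
      rw [← R.B_bsum b hB, R.bsum_coord, R.bsum_unit]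
      refine R.orth (fun e => ?_) hm (bmem j)
      have h' : 13 = 10 + j.val / 2 := congrArg Fin.val e
      omega
    have hany : ((List.range 6).any fun j => bt (R.coord b hB v) (mk' (2 ^ j))) = false :=
      List.any_eq_false.2 fun j hj => by
        have hj6 := List.mem_range.1 hj
        rw [show bt (R.coord b hB v) (mk' (2 ^ j)) = false from hz ⟨j, by omega⟩ hj6]
        exact Bool.false_ne_true
    rw [hany, Bool.false_or, beq_iff_eq] at h
    exact h

end Rep

end CfsgLib.U6Large.Shape
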