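import Cfsg.Agent.Lib.U6Large.Shape.Natural
import Cfsg.Agent.Lib.U6Large.Shape.Minus
import Cfsg.Agent.Lib.U6Large.Data

/-! The two shapes of the action on the quotient by the centre. -/

set_option autoImplicit false
set_option linter.style.longLine false

namespace CfsgLib.U6Large

open CfsgLib.SpFourThree CfsgLib.ThreeTrans.UCent
open CfsgLib.U6Large.Shape (bz Rep)

universe u

variable {G : Type u} [Group G] [Finite G] {z : G} {Q : Subgroup G}

/-- The unitary shape, or the orthogonal shape with exactly the high slot fixed. -/
theorem Ctx.cases (S : Ctx z Q) :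
    Nonempty S.Natural ∨ ∃ M : S.Minus, ∀ v, (∀ y, S.act y v = v) → (M.e v).code.val % 64 = 0 := by
  classical
  let _ : CommGroup (Vq Q) := { (inferInstance : Group (Vq Q)) with mul_comm := S.v_comm }
  have hb : ∀ {p : Prop} [Decidable p] {c : Bool}, (if p then (1 : ZMod 2) else 0) = bz c → (p ↔ c = true) := by
    intro p _ c h
    by_cases hp : p <;> cases c <;> simp [hp, bz] at h ⊢
  let ρ : Cfsg.PSp 2 (ZMod 3) →* AddMonoid.End (Additive (Vq Q)) :=
    { toFun := fun g => AddMonoidHom.mk' (fun v => Additive.ofMul (S.act g (Additive.toMul v)))
        (fun a b => congrArg Additive.ofMul (S.act_hom g _ _))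
      map_one' := AddMonoidHom.ext fun v => congrArg Additive.ofMul (S.act_one _)
      map_mul' := fun g h => AddMonoidHom.ext fun v => congrArg Additive.ofMul (S.act_mul g h _) }
  have hρ : ∀ g v, ρ g v = Additive.ofMul (S.act g (Additive.toMul v)) := fun g v => rfl
  let R : Rep (Additive (Vq Q)) :=
    { ρ := ρ
      B := fun v w => if S.Skew (Additive.toMul v) (Additive.toMul w) then 1 else 0
      q := fun v => if S.Four (Additive.toMul v) then 1 else 0
      two := fun v => congrArg Additive.ofMul (S.v_sq (Additive.toMul v))
      card := S.card_V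
      B_add := fun a b c => by
        show (if S.Skew (Additive.toMul a * Additive.toMul b) (Additive.toMul c) then (1 : ZMod 2) else 0) = _
        simp only [S.skew_mul]
        by_cases h1 : S.Skew (Additive.toMul a) (Additive.toMul c) <;>
          by_cases h2 : S.Skew (Additive.toMul b) (Additive.toMul c) <;> simp [h1, h2, CharTwo.add_self_eq_zero]
      B_symm := fun a b => by simp only [S.skew_symm (v := Additive.toMul a)]
      B_self := fun a => if_neg (S.not_skew_self _)
      B_nd := fun v h => congrArg Additive.ofMul (S.nondeg fun w hw => by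
        have h1 := h (Additive.ofMul w)
        rw [if_pos (show S.Skew (Additive.toMul v) (Additive.toMul (Additive.ofMul w)) from hw)] at h1
        exact one_ne_zero h1)
      B_inv := fun g v w => by simp only [hρ, toMul_ofMul, S.skew_act]
      q_add := fun a b => by
        show (if S.Four (Additive.toMul a * Additive.toMul b) then (1 : ZMod 2) else 0) = _
        simp only [S.four_mul]
        by_cases h1 : S.Four (Additive.toMul a) <;> by_cases h2 : S.Four (Additive.toMul b) <;>
          by_cases h3 : S.Skew (Additive.toMul a) (Additive.toMul b) <;> simp [h1, h2, h3, CharTwo.add_self_eq_zero]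
      q_inv := fun g v => by simp only [hρ, toMul_ofMul, S.four_act]
      faithful := fun g h => S.faithful fun v => congrArg Additive.toMul (h (Additive.ofMul v)) }
  rcases R.shapes with ⟨h4, h1⟩ | hc
  · obtain ⟨e, hadd, hB, hq, hgen⟩ := R.natural h4 h1
    exact Or.inl ⟨{
      e := (Additive.ofMul (α := Vq Q)).trans e
      add := fun v w => hadd (Additive.ofMul v) (Additive.ofMul w)
      skew := fun v w => hb (hB (Additive.ofMul v) (Additive.ofMul w))
      four := fun v => hb (hq (Additive.ofMul v))
      gen := fun j hj v => hgen j hj (Additive.ofMul v) }⟩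
  · obtain ⟨e, hadd, hB, hq, hfix, hfix'⟩ := R.minus hc
    refine Or.inr ⟨{
      e := (Additive.ofMul (α := Vq Q)).trans e
      add := fun v w => hadd (Additive.ofMul v) (Additive.ofMul w)
      skew := fun v w => hb (hB (Additive.ofMul v) (Additive.ofMul w))
      four := fun v hv => hb (hq (Additive.ofMul v) hv)
      fix := fun v hv y => congrArg Additive.toMul (hfix (Additive.ofMul v) hv y) }, fun v hv => ?_⟩
    exact hfix' (Additive.ofMul v) fun y => congrArg Additive.ofMul (hv y)

end CfsgLib.U6Large
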