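import Cfsg.Agent.Lib.U6Large.Shape.Frame
import Cfsg.Agent.Lib.U6Large.Tables

/-! Four planes: the module is the unitary one. -/

set_option autoImplicit false
set_option linter.unusedSectionVars false
set_option maxRecDepth 100000
set_option maxHeartbeats 1000000
set_option linter.style.longLine false

namespace CfsgLib.U6Large.Shape

open CfsgLib.SpFourThree CfsgLib.U6Large CfsgLib.ThreeTrans.UCent
open CfsgLib.ThreeTrans.UCent.W (mk')

universe u

/-- The weight of a plane. -/
def ix (k : Fin 4) : Fin 14 := ⟨k.val, by omega⟩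

/-- The element acting as the multiplier on a plane. -/
def ex (k : Fin 4) : X := if k.val < 3 then (1, 0, 0) else (0, 0, 1)

/-- The permutation of planes by the monomial generators. -/
def sg (g : Fin 3) (k : Fin 4) : Fin 4 :=
  ([[1, 0, 2, 3], [0, 2, 1, 3], [0, 1, 3, 2]] : List (List (Fin 4))).getD g.val [] |>.getD k.val 0

/-- The plane of a basis index. -/
def pl (i : Fin 8) : Fin 4 := ⟨i.val / 2, by omega⟩

/-- The permutation of the basis. -/
def sb (g : Fin 3) (i : Fin 8) : Fin 8 := ⟨2 * (sg g (pl i)).val + i.val % 2, by omega⟩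

/-- The image of a basis vector under an element of the abelian subgroup, by the value of the weight. -/
def tgt (i : Fin 8) (d : ZMod 3) : List (Fin 8) :=
  if i.val % 2 = 0 then
    (if d = 0 then [i] else if d = 1 then [⟨2 * (pl i).val + 1, by omega⟩]
      else [⟨2 * (pl i).val, by omega⟩, ⟨2 * (pl i).val + 1, by omega⟩])
  else
    (if d = 0 then [i] else if d = 1 then [⟨2 * (pl i).val, by omega⟩, ⟨2 * (pl i).val + 1, by omega⟩]
      else [⟨2 * (pl i).val, by omega⟩])

theorem ix_facts : (∀ g k, pm g (ix k) = ix (sg g k)) ∧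
    (∀ g k, dot (ix (sg g k)) (cm g (ex k)) = dot (ix (sg g k)) (ex (sg g k))) ∧ (∀ k, dot (ix k) (ex k) = 1) ∧
    ∀ g k, sg g k = k → ∀ x, dot (ix k) (cm g x) = dot (ix k) x := by decide +kernel

theorem gen_abelian : ∀ (j : Fin 3) (i : Fin 8), mapW (genW.getD j.val []) (unit i) =
    ((tgt i (dot (ix (pl i)) ([(1, 0, 0), (0, 1, 0), (0, 0, 1)].getD j.val (0, 0, 0)))).map unit).sum := by
  decide +kernel

theorem gen_mono : ∀ (g : Fin 3) (i : Fin 8), mapW (genW.getD (3 + g.val) []) (unit i) = unit (sb g i) := by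
  decide +kernel

/-- Evaluation of a word in given maps. -/
def wI (gs : List (List ℕ)) : List ℕ → W → W
  | [], x => x
  | j :: l, x => mapW (gs.getD j []) (wI gs l x)

/-- The code of the image of a code under a generator. -/
def gc (j n : ℕ) : ℕ := (mapW (genW.getD j []) (mk' n)).code.val

/-- Three relations. -/
def relOK (gs : List (List ℕ)) : Bool :=
  ((List.range 8).all fun i => wI gs [6, 6] (mk' (2 ^ i)) == wI gs [4] (mk' (2 ^ i))) &&
  ((List.range 8).all fun i => wI gs [2, 6, 2, 6, 2, 6] (mk' (2 ^ i)) == wI gs [4] (mk' (2 ^ i))) &&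
  ((List.range 8).all fun i => wI gs [4, 3, 5, 6, 3, 6, 3, 4] (mk' (2 ^ i)) == wI gs [3, 5, 6, 3, 6, 3, 4, 5] (mk' (2 ^ i)))

theorem rel_eqs : eqC (wordC [6, 6]) (wordC [4]) = true ∧ eqC (wordC [2, 6, 2, 6, 2, 6]) (wordC [4]) = true ∧
    eqC (wordC [4, 3, 5, 6, 3, 6, 3, 4]) (wordC [3, 5, 6, 3, 6, 3, 4, 5]) = true ∧
    eqC (wordC [6, 0]) (wordC [0, 6]) = true ∧ eqC (wordC [6, 4]) (wordC [4, 6]) = true := by decide +kernel

/-- The possible images of the last generator. -/
def cand (a b s t : ℕ) : List ℕ := [a, gc 0 a, b, gc 0 b, gc 4 b, gc 0 (gc 4 b), s, t]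

theorem search : ((List.range 64).all fun a => !(Nat.beq (gc 4 a) a) || ((List.range 64).all fun b =>
    [64, 128, 192].all fun s => [64, 128, 192].all fun t =>
      Nat.beq s t || !(relOK (genW.take 6 ++ [cand a b s t])) || cand a b s t == genW.getD 6 [])) = true := by
  decide +kernel

namespace Rep

variable {V : Type u} [AddCommGroup V] (R : Rep V)
include R

theorem eq_zero_of_card_one {i : Fin 14} (h : Nat.card (R.L i) = 1) {v : V} (hv : v ∈ R.L i) : v = 0 := by
  have := (Nat.card_eq_one_iff_unique.1 h).1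
  exact congrArg Subtype.val (Subsingleton.elim (⟨v, hv⟩ : R.L i) 0)

theorem bsum_list (b : Fin 8 → V) (l : List (Fin 8)) : R.bsum b (l.map unit).sum = (l.map b).sum := by
  induction l with
  | nil => exact R.bsum_zero b
  | cons i l ih => rw [List.map_cons, List.map_cons, List.sum_cons, List.sum_cons, R.bsum_add, R.bsum_unit, ih]

/-- The chosen vectors in the planes. -/
noncomputable def pts (u0 : V) : Fin 4 → V :=
  ![u0, R.ρ (ev [3]) u0, R.ρ (ev [4]) (R.ρ (ev [3]) u0), R.ρ (ev [5]) (R.ρ (ev [4]) (R.ρ (ev [3]) u0))]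

/-- The basis. -/
noncomputable def basis (u0 : V) (i : Fin 8) : V :=
  if i.val % 2 = 0 then R.pts u0 (pl i) else R.ρ (aX (ex (pl i))) (R.pts u0 (pl i))

theorem natural (h4 : ∀ i : Fin 14, i.val < 4 → Nat.card (R.L i) = 4)
    (h1 : ∀ i : Fin 14, 4 ≤ i.val → Nat.card (R.L i) = 1) :
    ∃ e : V ≃ W, (∀ v w, e (v + w) = e v + e w) ∧ (∀ v w, R.B v w = bz (bt (e v) (e w))) ∧
      (∀ v, R.q v = bz (qW (e v))) ∧
      ∀ j < 7, ∀ v, e (R.ρ (ev [j]) v) = mapW (genW.getD j []) (e v) := by
  have := R.finite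
  obtain ⟨u0, hu0, hu00⟩ : ∃ v ∈ R.L 0, v ≠ (0 : V) := by
    by_contra hn
    push Not at hn
    have : Nat.card (R.L 0) = 1 := Nat.card_eq_one_iff_unique.2
      ⟨⟨fun a b => Subtype.ext ((hn a a.2).trans (hn b b.2).symm)⟩, ⟨0⟩⟩
    rw [h4 0 (by decide)] at this
    omega
  set u := R.pts u0 with hu
  have hk4 : ∀ k, Nat.card (R.L (ix k)) = 4 := fun k => h4 _ k.2
  have hk13 : ∀ k, (ix k).val ≠ 13 := fun k => by show k.val ≠ 13; omega
  have hex : ∀ k, dot (ix k) (ex k) ≠ 0 := fun k => by rw [ix_facts.2.2.1]; decide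
  have mapM : ∀ (g : Fin 3) (k : Fin 4) {v : V}, v ∈ R.L (ix k) → R.ρ (ev [3 + g.val]) v ∈ R.L (ix (sg g k)) :=
    fun g k v hv => ix_facts.1 g k ▸ R.mono_mem g hv
  have hum : ∀ k, u k ∈ R.L (ix k) := by
    have m1 : R.ρ (ev [3]) u0 ∈ R.L (ix 1) := mapM 0 0 hu0
    have m2 : R.ρ (ev [4]) (R.ρ (ev [3]) u0) ∈ R.L (ix 2) := mapM 1 1 m1
    have m3 : R.ρ (ev [5]) (R.ρ (ev [4]) (R.ρ (ev [3]) u0)) ∈ R.L (ix 3) := mapM 2 2 m2
    intro k
    fin_cases k
    exacts [hu0, m1, m2, m3]
  have hne : ∀ {g : Cfsg.PSp 2 (ZMod 3)} {v : V}, v ≠ 0 → R.ρ g v ≠ 0 := fun {g v} h e =>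
    h (R.ρ_inj g (by rw [e, map_zero]))
  have hu_ne : ∀ k, u k ≠ 0 := by
    intro k
    fin_cases k
    exacts [hu00, hne hu00, hne (hne hu00), hne (hne (hne hu00))]
  -- the monomial generators permute the chosen vectors
  have fixlem : ∀ g k, sg g k = k → R.ρ (ev [3 + g.val]) (u k) = u k := by
    intro g k hk
    have hm := mapM g k (hum k)
    rw [hk] at hm
    have e : ∀ y, R.ρ (ev [3 + g.val]) (u k) = R.ρ (aX y) (u k) → dot (ix k) y = 0 := by
      intro y hy
      have h := R.mono_invol g (u k)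
      rw [hy, ← R.ρ_mul, cm_conj, R.ρ_mul, hy, ← R.ρ_mul, ← aX_add] at h
      by_contra hd
      refine R.act_ne (hk13 k) (hum k) (hu_ne k) ?_ h
      rw [dot_add, ix_facts.2.2.2 g k hk]
      exact (by decide : ∀ a : ZMod 3, a ≠ 0 → a + a ≠ 0) _ hd
    rcases R.plane_elems (hk13 k) (hk4 k) (hum k) (hu_ne k) (hex k) hm with c | c | c | c
    · exact absurd c (hne (hu_ne k))
    · exact c
    · exact absurd (e _ c) (hex k)
    · rw [← R.third (hk13 k) (hum k) (hex k)] at c
      have := e _ c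
      rw [dot_add, ix_facts.2.2.1] at this
      exact absurd this (by decide)
  have mono_u : ∀ g k, R.ρ (ev [3 + g.val]) (u k) = u (sg g k) := by
    intro g k
    fin_cases g <;> fin_cases k
    · rfl
    · exact R.mono_invol 0 u0
    · exact fixlem 0 2 (by rfl)
    · exact fixlem 0 3 (by rfl)
    · exact fixlem 1 0 (by rfl)
    · rfl
    · exact R.mono_invol 1 _
    · exact fixlem 1 3 (by rfl)
    · exact fixlem 2 0 (by rfl)
    · exact fixlem 2 1 (by rfl)
    · rfl
    · exact R.mono_invol 2 _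
  set b := R.basis u0 with hb
  have beven : ∀ i : Fin 8, i.val % 2 = 0 → b i = u (pl i) := fun i h => if_pos h
  have bodd : ∀ i : Fin 8, ¬ i.val % 2 = 0 → b i = R.ρ (aX (ex (pl i))) (u (pl i)) := fun i h => if_neg h
  have bmem : ∀ i, b i ∈ R.L (ix (pl i)) := fun i => by
    by_cases h : i.val % 2 = 0
    · rw [beven i h]; exact hum _
    · rw [bodd i h]; exact R.act_mem _ (hum _)
  have hB := R.hB_of_planes ix (fun a b e => Fin.ext (Fin.mk.injEq .. ▸ e : _)) b bmem (fun i j h hl => by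
    have hp : pl i = pl j := Fin.ext h
    rw [beven i (by omega), bodd j (by omega), ← hp]
    exact R.B_plane (hk13 _) (hk4 _) (hum _) (hu_ne _) (hex _))
  have bmono : ∀ g i, R.ρ (ev [3 + g.val]) (b i) = b (sb g i) := by
    intro g i
    have hpl : pl (sb g i) = sg g (pl i) := Fin.ext (by show (2 * (sg g (pl i)).val + i.val % 2) / 2 = _; omega)
    by_cases h : i.val % 2 = 0
    · rw [beven i h, beven (sb g i) (by show (2 * (sg g (pl i)).val + i.val % 2) % 2 = 0; omega), hpl, mono_u]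
    · rw [bodd i h, bodd (sb g i) (by show ¬ (2 * (sg g (pl i)).val + i.val % 2) % 2 = 0; omega), hpl, ← R.ρ_mul,
        cm_conj, R.ρ_mul, mono_u]
      exact R.act_eq (hum _) (ix_facts.2.1 g (pl i))
  have bab : ∀ x i, R.ρ (aX x) (b i) = ((tgt i (dot (ix (pl i)) x)).map b).sum := by
    intro x i
    set k := pl i with hk
    have e0 : b ⟨2 * k.val, by omega⟩ = u k := by
      rw [beven _ (by show (2 * k.val) % 2 = 0; omega)]
      exact congrArg u (Fin.ext (by show 2 * k.val / 2 = k.val; omega))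
    have e1 : b ⟨2 * k.val + 1, by omega⟩ = R.ρ (aX (ex k)) (u k) := by
      rw [bodd _ (by show ¬ (2 * k.val + 1) % 2 = 0; omega),
        show pl ⟨2 * k.val + 1, by omega⟩ = k from Fin.ext (by show (2 * k.val + 1) / 2 = k.val; omega)]
    have hd := (show ∀ a : ZMod 3, a = 0 ∨ a = 1 ∨ a = 1 + 1 by decide) (dot (ix k) x)
    rcases hd with d | d | d
    · rw [R.act_triv (bmem i) d, tgt, d]
      by_cases h : i.val % 2 = 0 <;> simp [h]
    · have de : dot (ix k) x = dot (ix k) (ex k) := by rw [d, ix_facts.2.2.1]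
      by_cases h : i.val % 2 = 0
      · rw [beven i h, R.act_eq (hum k) de, tgt, if_pos h, d, if_neg (by decide), if_pos rfl]
        simp [← hk, e1]
      · rw [bodd i h, ← hk, R.act_eq (R.act_mem _ (hum k)) de, ← R.ρ_mul, ← aX_add,
          R.third (hk13 k) (hum k) (hex k), tgt, if_neg h, d, if_neg (by decide), if_pos rfl]
        simp [← hk, e0, e1]
    · have de : dot (ix k) x = dot (ix k) (ex k + ex k) := by rw [d, dot_add, ix_facts.2.2.1]
      by_cases h : i.val % 2 = 0
      · rw [beven i h, R.act_eq (hum k) de, R.third (hk13 k) (hum k) (hex k), tgt, if_pos h, d,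
          if_neg (by decide), if_neg (by decide)]
        simp [← hk, e0, e1]
      · rw [bodd i h, ← hk, R.act_eq (R.act_mem _ (hum k)) de, ← R.ρ_mul, ← aX_add,
          R.act_triv (hum k) (by rw [dot_add, dot_add, ix_facts.2.2.1]; decide), tgt, if_neg h, d,
          if_neg (by decide), if_neg (by decide)]
        simp [← hk, e0]
  have gen6 : ∀ j, j < 6 → ∀ w, R.ρ (ev [j]) (R.bsum b w) = R.bsum b (mapW (genW.getD j []) w) := by
    intro j hj
    refine R.additive_ext b _ _ fun i => ?_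
    by_cases h : j < 3
    · rw [← aX_gen j h, bab, gen_abelian ⟨j, h⟩ i, R.bsum_list]
    · obtain ⟨g, rfl⟩ : ∃ g : Fin 3, j = 3 + g.val := ⟨⟨j - 3, by omega⟩, by show j = 3 + (j - 3); omega⟩
      rw [bmono, gen_mono, R.bsum_unit]
  -- the last generator
  set f := R.bsum b
  set co := R.coord b hB
  let c : Fin 8 → ℕ := fun i => (co (R.ρ (ev [6]) (b i))).code.val
  have hc : ∀ i, R.ρ (ev [6]) (b i) = f (mk' (c i)) := fun i => by
    rw [W.mk'_val]; exact (R.bsum_coord b hB _).symm
  have g6all : ∀ w, R.ρ (ev [6]) (f w) = f (mapW (List.ofFn c) w) :=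
    R.additive_ext b _ _ fun i => by rw [mapW_unit, hc]
  have comm : ∀ j, (j = 0 ∨ j = 4) → ∀ v, R.ρ (ev [6]) (R.ρ (ev [j]) v) = R.ρ (ev [j]) (R.ρ (ev [6]) v) := by
    intro j hj v
    rw [← R.ρ_mul, ← R.ρ_mul, ← ev_append, ← ev_append]
    rcases hj with rfl | rfl
    · exact congrArg (fun y => R.ρ y v) (ev_eq rel_eqs.2.2.2.1)
    · exact congrArg (fun y => R.ρ y v) (ev_eq rel_eqs.2.2.2.2)
  have htr : ∀ j, (j = 0 ∨ j = 4) → ∀ a a' : Fin 8, mapW (genW.getD j []) (unit a) = unit a' →
      c a' = gc j (c a) := by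
    intro j hj a a' hm
    have h := comm j hj (b a)
    have fu : ∀ i, f (unit i) = b i := R.bsum_unit b
    rw [← fu a, gen6 j (by omega), hm, fu, fu, hc, hc, gen6 j (by omega)] at h
    have h' := congrArg W.code ((R.bsum_bij b hB).1 h)
    have hlt : ∀ i, c i < 256 := fun i => (co (R.ρ (ev [6]) (b i))).code.2
    have h2 := congrArg Fin.val h'
    rw [W.mk'_code (hlt a')] at h2
    exact h2
  have inL3 : ∀ v, R.ρ (ev [0]) v = v → v ∈ R.L 3 := by
    intro v hv
    have e := R.P_sum v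
    rw [Finset.sum_eq_single (3 : Fin 14) (fun j _ hj => ?_) (by simp)] at e
    · rw [← e]; exact R.P_mem 3 v
    · by_cases hj4 : j.val < 4
      · refine R.eq_zero_of_fixed (x := (1, 0, 0)) (by omega) ?_ (by rw [show aX ((1, 0, 0) : X) = ev [0] from aX_gen 0 (by norm_num)]; exact hv)
        revert hj hj4 j
        decide
      · exact R.eq_zero_of_card_one (h1 j (by omega)) (R.P_mem j v)
  have hfix0 : ∀ {v}, v ∈ R.L 3 → R.ρ (ev [0]) v = v := fun {v} hv => by
    rw [← aX_gen 0 (by norm_num)]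
    exact R.act_triv hv (by decide)
  have b67 : ∀ i : Fin 8, 6 ≤ i.val → b i ∈ R.L 3 := fun i hi => by
    have := bmem i
    rwa [show ix (pl i) = 3 from Fin.ext (by show i.val / 2 = 3; omega)] at this
  have blow : ∀ {v} (i : Fin 8), i.val < 6 → v ∈ R.L 3 → R.B v (b i) = 0 := fun {v} i hi hv => by
    refine R.orth (fun e => ?_) hv (bmem i)
    have h' : 3 = i.val / 2 := congrArg Fin.val e
    omega
  have clow : ∀ i : Fin 8, i.val < 6 → c i < 64 := by
    intro i hi
    have key : ∀ j : Fin 8, 6 ≤ j.val → bt (mk' (c i)) (unit j) = false := fun j hj => by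
      apply bz_inj
      rw [← R.B_bsum b hB, R.bsum_unit]
      show R.B (f (mk' (c i))) (b j) = 0
      rw [← hc]
      have hw : R.ρ ((ev [6])⁻¹) (b j) ∈ R.L 3 := inL3 _ (R.ρ_inj (ev [6]) (by
        rw [comm 0 (Or.inl rfl), ← R.ρ_mul (ev [6]), mul_inv_cancel, R.ρ_one, hfix0 (b67 j hj)]))
      rw [show b j = R.ρ (ev [6]) (R.ρ ((ev [6])⁻¹) (b j)) by rw [← R.ρ_mul, mul_inv_cancel, R.ρ_one], R.B_inv,
        R.B_symm]
      exact blow i hi hw
    have h := of_all1 high_sep (mk' (c i))
    rw [show bt (mk' (c i)) (mk' 64) = false from key 6 (le_refl _),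
      show bt (mk' (c i)) (mk' 128) = false from key 7 (by decide), Bool.false_or, Bool.false_or,
      W.mk'_code (co (R.ρ (ev [6]) (b i))).code.2] at h
    exact Nat.le_of_ble_eq_true h
  have chigh : ∀ i : Fin 8, 6 ≤ i.val → c i ∈ [64, 128, 192] := by
    intro i hi
    have hv : R.ρ (ev [6]) (b i) ∈ R.L 3 := inL3 _ (by rw [← comm 0 (Or.inl rfl), hfix0 (b67 i hi)])
    have h := of_all1 low_sep (mk' (c i))
    have hz : ∀ j : Fin 8, j.val < 6 → bt (mk' (c i)) (unit j) = false := fun j hj => by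
      apply bz_inj
      rw [← R.B_bsum b hB, R.bsum_unit]
      show R.B (f (mk' (c i))) (b j) = 0
      rw [← hc]
      exact blow j hj hv
    have hany : ((List.range 6).any fun j => bt (mk' (c i)) (mk' (2 ^ j))) = false :=
      List.any_eq_false.2 fun j hj => by
        have hj6 := List.mem_range.1 hj
        rw [show bt (mk' (c i)) (mk' (2 ^ j)) = false from hz ⟨j, by omega⟩ hj6]
        exact Bool.false_ne_true
    rw [hany, Bool.false_or, beq_iff_eq, W.mk'_code (co (R.ρ (ev [6]) (b i))).code.2] at h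
    have hne0 : c i ≠ 0 := fun e => by
      have h' := hc i
      rw [e, show mk' 0 = (0 : W) from rfl, show f 0 = 0 from R.bsum_zero b, ← map_zero (R.ρ (ev [6]))] at h'
      have h'' : f (unit i) = f 0 := by
        rw [show f (unit i) = b i from R.bsum_unit b i, show f 0 = 0 from R.bsum_zero b]
        exact R.ρ_inj _ h'
      have h3 := (R.bsum_bij b hB).1 h''
      exact absurd h3 ((show ∀ i : Fin 8, unit i ≠ 0 by decide +kernel) i)
    have hlt : c i < 256 := (co (R.ρ (ev [6]) (b i))).code.2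
    change c i % 64 = 0 at h
    simp only [List.mem_cons, List.not_mem_nil, or_false]
    omega
  have hst : c 6 ≠ c 7 := fun e => by
    have h := (hc 6).trans ((congrArg (fun n => f (mk' n)) e).trans (hc 7).symm)
    have h2 := R.ρ_inj _ h
    rw [← R.bsum_unit b 6, ← R.bsum_unit b 7] at h2
    exact absurd ((R.bsum_bij b hB).1 h2) (by decide +kernel)
  have hcand : List.ofFn c = cand (c 0) (c 2) (c 6) (c 7) := by
    have e1 := htr 0 (Or.inl rfl) 0 1 (by decide +kernel)
    have e3 := htr 0 (Or.inl rfl) 2 3 (by decide +kernel)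
    have e4 := htr 4 (Or.inr rfl) 2 4 (by decide +kernel)
    have e5 := htr 0 (Or.inl rfl) 4 5 (by decide +kernel)
    rw [e4] at e5
    simp only [List.ofFn_succ, List.ofFn_zero, cand]
    rw [← e1, ← e3, ← e5, ← e4]
    rfl
  set gs := genW.take 6 ++ [List.ofFn c] with hgs
  have hgen : ∀ j, j < 7 → ∀ w, R.ρ (ev [j]) (f w) = f (mapW (gs.getD j []) w) := by
    intro j hj
    by_cases h : j = 6
    · subst h; exact g6all
    · intro w
      rw [gen6 j (by omega) w]
      congr 2
      interval_cases j <;> first | rfl | omega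
  have word : ∀ l, (∀ j ∈ l, j < 7) → ∀ w, R.ρ (ev l) (f w) = f (wI gs l w) := by
    intro l
    induction l with
    | nil => intro _ w; rw [ev_nil, R.ρ_one]; rfl
    | cons j l ih =>
      intro h w
      rw [ev_cons, R.ρ_mul, ih (fun m hm => h m (List.mem_cons_of_mem j hm)), hgen j (h j List.mem_cons_self)]
      rfl
  have rel : ∀ l m, (∀ j ∈ l, j < 7) → (∀ j ∈ m, j < 7) → eqC (wordC l) (wordC m) = true →
      ((List.range 8).all fun i => wI gs l (mk' (2 ^ i)) == wI gs m (mk' (2 ^ i))) = true := by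
    intro l m hl hm e
    refine List.all_eq_true.2 fun i _ => beq_iff_eq.2 ((R.bsum_bij b hB).1 ?_)
    show f _ = f _
    rw [← word l hl, ← word m hm, ev_eq e]
  have hrel : relOK gs = true := by
    simp only [relOK, Bool.and_eq_true]
    exact ⟨⟨rel _ _ (by decide) (by decide) rel_eqs.1, rel _ _ (by decide) (by decide) rel_eqs.2.1⟩,
      rel _ _ (by decide) (by decide) rel_eqs.2.2.1⟩
  have ha4 : gc 4 (c 0) = c 0 := (htr 4 (Or.inr rfl) 0 0 (by decide +kernel)).symm
  have h6 : List.ofFn c = genW.getD 6 [] := by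
    have h := List.all_eq_true.1 search (c 0) (List.mem_range.2 (clow 0 (by decide)))
    rw [ha4, show Nat.beq (c 0) (c 0) = true from Nat.beq_refl _, Bool.not_true, Bool.false_or] at h
    have h2 := List.all_eq_true.1 (List.all_eq_true.1 (List.all_eq_true.1 h (c 2) (List.mem_range.2 (clow 2 (by decide))))
      (c 6) (chigh 6 (le_refl _))) (c 7) (chigh 7 (by decide))
    rw [← hcand, ← hgs, hrel, show Nat.beq (c 6) (c 7) = false from Bool.eq_false_iff.2 fun e => hst (Nat.eq_of_beq_eq_true e),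
      Bool.not_true, Bool.false_or, Bool.false_or, beq_iff_eq] at h2
    exact h2
  refine ⟨co, R.coord_add b hB, R.B_coord b hB, fun v => ?_, fun j hj v => ?_⟩
  · conv_lhs => rw [← R.bsum_coord b hB v]
    refine R.q_bsum b hB 8 le_rfl (fun i _ => ?_) _ (co v).code.2
    rw [show qW (unit i) = true by revert i; decide +kernel]
    by_cases h : i.val % 2 = 0
    · rw [beven i h]; exact R.q_plane (hk13 _) (hk4 _) (hum _) (hu_ne _)
    · rw [bodd i h, R.q_inv]; exact R.q_plane (hk13 _) (hk4 _) (hum _) (hu_ne _)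
  · apply (R.bsum_bij b hB).1
    rw [R.bsum_coord]
    conv_lhs => rw [← R.bsum_coord b hB v]
    rw [hgen j hj]
    congr 2
    by_cases h : j = 6
    · subst h
      rw [← h6]
      rfl
    · interval_cases j <;> first | rfl | omega

end Rep

end CfsgLib.U6Large.Shape
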