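import Cfsg.Agent.Lib.U6Large.Shape.Group

/-! An eight-dimensional faithful orthogonal module over two elements: the weight spaces. -/

set_option autoImplicit false
set_option linter.unusedSectionVars false
set_option linter.style.longLine false

namespace CfsgLib.U6Large.Shape

open CfsgLib.SpFourThree CfsgLib.U6Large

universe u

/-- A faithful action on an additive group of order 256 respecting a quadratic form. -/
structure Rep (V : Type u) [AddCommGroup V] where
  /-- The action. -/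
  ρ : Cfsg.PSp 2 (ZMod 3) →* AddMonoid.End V
  /-- The alternating form. -/
  B : V → V → ZMod 2
  /-- The quadratic form. -/
  q : V → ZMod 2
  two : ∀ v : V, v + v = 0
  card : Nat.card V = 256
  B_add : ∀ u v w, B (u + v) w = B u w + B v w
  B_symm : ∀ u v, B u v = B v u
  B_self : ∀ v, B v v = 0
  B_nd : ∀ v, (∀ w, B v w = 0) → v = 0
  B_inv : ∀ g v w, B (ρ g v) (ρ g w) = B v w
  q_add : ∀ u v, q (u + v) = q u + q v + B u v
  q_inv : ∀ g v, q (ρ g v) = q v
  faithful : ∀ g, (∀ v, ρ g v = v) → g = 1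

theorem shift_sum (f : X → ℕ) (w x : X) : (∑ a, if w - a = x then f a else 0) = f (w - x) := by
  have h : ∀ a, (w - a = x) = (a = w - x) := fun a => propext
    ⟨fun e => by rw [← e, sub_sub_cancel], fun e => by rw [e, sub_sub_cancel]⟩
  simp only [h, Finset.sum_ite_eq', Finset.mem_univ, if_true]

namespace Rep

variable {V : Type u} [AddCommGroup V] (R : Rep V)
include R

theorem finite : Finite V := Nat.finite_of_card_ne_zero (by rw [R.card]; norm_num)

theorem ρ_mul (g h : Cfsg.PSp 2 (ZMod 3)) (v : V) : R.ρ (g * h) v = R.ρ g (R.ρ h v) := by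
  rw [map_mul]; rfl

theorem ρ_one (v : V) : R.ρ 1 v = v := by rw [map_one]; rfl

theorem ρ_inj (g : Cfsg.PSp 2 (ZMod 3)) {v w : V} (h : R.ρ g v = R.ρ g w) : v = w := by
  rw [← R.ρ_one v, ← R.ρ_one w, ← inv_mul_cancel g, R.ρ_mul, h, ← R.ρ_mul]

theorem B_zero (w : V) : R.B 0 w = 0 := by
  have h := R.B_add 0 0 w
  rw [add_zero] at h
  exact left_eq_add.1 h

theorem B_add' (u v w : V) : R.B u (v + w) = R.B u v + R.B u w := by
  rw [R.B_symm, R.B_add, R.B_symm v, R.B_symm w]

theorem q_zero : R.q 0 = 0 := by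
  have h := R.q_add 0 0
  rw [add_zero, R.B_zero, add_zero] at h
  exact left_eq_add.1 h

/-- A combination of the abelian subgroup. -/
noncomputable def Φ (f : X → ℕ) (v : V) : V := ∑ x, f x • R.ρ (aX x) v

theorem nsmul_mod (n : ℕ) (v : V) : n • v = (n % 2) • v := by
  conv_lhs => rw [← Nat.mod_add_div n 2, add_smul, mul_comm, mul_smul, two_nsmul, R.two, smul_zero, add_zero]

theorem Φ_congr {f g : X → ℕ} (h : ∀ x, f x % 2 = g x % 2) (v : V) : R.Φ f v = R.Φ g v :=
  Finset.sum_congr rfl fun x _ => by rw [R.nsmul_mod (f x), h, ← R.nsmul_mod]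

theorem Φ_add (f : X → ℕ) (v w : V) : R.Φ f (v + w) = R.Φ f v + R.Φ f w := by
  simp only [Φ, map_add, smul_add, Finset.sum_add_distrib]

theorem Φ_zero (f : X → ℕ) : R.Φ f 0 = 0 := by simp [Φ]

theorem Φ_mul (f g : X → ℕ) (v : V) : R.Φ f (R.Φ g v) = R.Φ (fun w => ∑ x, f x * g (w - x)) v := by
  calc R.Φ f (R.Φ g v) = ∑ x, ∑ y, (f x * g y) • R.ρ (aX (x + y)) v := by
        refine Finset.sum_congr rfl fun x _ => ?_
        show f x • R.ρ (aX x) (∑ y, g y • R.ρ (aX y) v) = _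
        rw [map_sum, Finset.smul_sum]
        refine Finset.sum_congr rfl fun y _ => ?_
        rw [map_nsmul, aX_add, R.ρ_mul, mul_smul]
    _ = ∑ x, ∑ w, (f x * g (w - x)) • R.ρ (aX w) v := Finset.sum_congr rfl fun x _ => by
        refine Fintype.sum_equiv (Equiv.addLeft x) _ _ fun y => ?_
        simp
    _ = ∑ w, (∑ x, f x * g (w - x)) • R.ρ (aX w) v := by
        rw [Finset.sum_comm]
        exact Finset.sum_congr rfl fun w _ => (Finset.sum_smul).symm

theorem Φ_delta (y : X) (v : V) : R.Φ (fun x => if x = y then 1 else 0) v = R.ρ (aX y) v := by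
  simp [Φ, ite_smul, Finset.sum_ite_eq']

theorem Φ_sum_fun {ι : Type*} (s : Finset ι) (f : ι → X → ℕ) (v : V) :
    R.Φ (fun x => ∑ i ∈ s, f i x) v = ∑ i ∈ s, R.Φ (f i) v := by
  simp only [Φ, Finset.sum_smul]
  rw [Finset.sum_comm]

theorem B_sum {ι : Type*} (s : Finset ι) (f : ι → V) (w : V) : R.B (∑ i ∈ s, f i) w = ∑ i ∈ s, R.B (f i) w := by
  classical
  induction s using Finset.induction_on with
  | empty => simp [R.B_zero]
  | @insert a s ha ih => rw [Finset.sum_insert ha, Finset.sum_insert ha, R.B_add, ih]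

theorem B_nsmul (n : ℕ) (v w : V) : R.B (n • v) w = n • R.B v w := by
  induction n with
  | zero => rw [zero_smul, zero_smul, R.B_zero]
  | succ n ih => rw [succ_nsmul, succ_nsmul, R.B_add, ih]

theorem Φ_adj (f : X → ℕ) (v w : V) : R.B (R.Φ f v) w = R.B v (R.Φ (fun x => f (-x)) w) := by
  rw [R.B_symm v, Φ, Φ, R.B_sum, R.B_sum]
  refine Fintype.sum_equiv (Equiv.neg X) _ _ fun x => ?_
  rw [R.B_nsmul, R.B_nsmul, Equiv.neg_apply, neg_neg]
  congr 1
  rw [← R.B_inv (aX (-x)), ← R.ρ_mul, ← aX_add, neg_add_cancel, aX_zero, R.ρ_one, R.B_symm]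

/-- The projection of a weight. -/
noncomputable def P (i : Fin 14) : V → V := R.Φ (ind i)

theorem P_P (i j : Fin 14) (v : V) : R.P i (R.P j v) = if i = j then R.P i v else 0 := by
  rw [P, P, R.Φ_mul]
  by_cases h : i = j
  · rw [if_pos h]
    exact R.Φ_congr (fun w => by rw [ind_mul, if_pos h]) v
  · rw [if_neg h, R.Φ_congr (g := fun _ => 0) (fun w => by rw [ind_mul, if_neg h]) v]
    simp [Φ]

theorem P_sum (v : V) : ∑ i, R.P i v = v := by
  calc ∑ i, R.P i v = R.Φ (fun x => ∑ i, ind i x) v := (R.Φ_sum_fun _ _ v).symm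
    _ = R.Φ (fun x => if x = (0 : X) then 1 else 0) v := R.Φ_congr (fun x => by rw [ind_sum]; split <;> rfl) v
    _ = v := by rw [R.Φ_delta, aX_zero, R.ρ_one]

theorem P_add (i : Fin 14) (v w : V) : R.P i (v + w) = R.P i v + R.P i w := R.Φ_add _ v w

theorem P_zero (i : Fin 14) : R.P i 0 = 0 := R.Φ_zero _

/-- The weight space. -/
noncomputable def L (i : Fin 14) : AddSubgroup V where
  carrier := {v | R.P i v = v}
  zero_mem' := R.P_zero i
  add_mem' := fun {a b} (ha : R.P i a = a) (hb : R.P i b = b) => by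
    show R.P i (a + b) = a + b
    rw [R.P_add, ha, hb]
  neg_mem' := fun {a} (ha : R.P i a = a) => by
    show R.P i (-a) = -a
    rw [show -a = a from neg_eq_of_add_eq_zero_left (R.two a)]
    exact ha

theorem P_mem (i : Fin 14) (v : V) : R.P i v ∈ R.L i := by
  show R.P i (R.P i v) = R.P i v
  rw [R.P_P, if_pos rfl]

theorem P_other {i j : Fin 14} (h : i ≠ j) {v : V} (hv : v ∈ R.L j) : R.P i v = 0 := by
  rw [← (hv : R.P j v = v), R.P_P, if_neg h]

theorem orth {i j : Fin 14} (h : i ≠ j) {v w : V} (hv : v ∈ R.L i) (hw : w ∈ R.L j) : R.B v w = 0 := by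
  rw [← (hv : R.P i v = v), P, R.Φ_adj, show (fun x => ind i (-x)) = ind i from funext (ind_symm i),
    show R.Φ (ind i) w = R.P i w from rfl, R.P_other h hw, R.B_symm, R.B_zero]

/-- On a weight space the action depends only on the value of the weight. -/
theorem act_eq {i : Fin 14} {v : V} (hv : v ∈ R.L i) {x y : X} (h : dot i x = dot i y) :
    R.ρ (aX x) v = R.ρ (aX y) v := by
  rw [← (hv : R.P i v = v), P, ← R.Φ_delta x, ← R.Φ_delta y, R.Φ_mul, R.Φ_mul]
  refine R.Φ_congr (fun w => ?_) v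
  have e : ind i (w - x) = ind i (w - y) := by simp only [ind, dot_sub, h]
  simp [Finset.sum_ite_eq', e]

theorem act_triv {i : Fin 14} {v : V} (hv : v ∈ R.L i) {x : X} (h : dot i x = 0) : R.ρ (aX x) v = v := by
  rw [R.act_eq hv (y := 0) (by rw [h]; simp [dot]), aX_zero, R.ρ_one]

theorem act_mem (x : X) {i : Fin 14} {v : V} (hv : v ∈ R.L i) : R.ρ (aX x) v ∈ R.L i := by
  show R.P i (R.ρ (aX x) v) = R.ρ (aX x) v
  conv_rhs => rw [← (hv : R.P i v = v)]
  rw [P, ← R.Φ_delta x, ← R.Φ_delta x, R.Φ_mul, R.Φ_mul]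
  refine R.Φ_congr (fun w => ?_) v
  simp [shift_sum]

theorem act_P (x : X) (i : Fin 14) (v : V) : R.P i (R.ρ (aX x) v) = R.ρ (aX x) (R.P i v) := by
  rw [P, ← R.Φ_delta x, ← R.Φ_delta x, R.Φ_mul, R.Φ_mul]
  refine R.Φ_congr (fun w => ?_) v
  simp [shift_sum]

theorem sum_three {i : Fin 14} (hi : i.val ≠ 13) {v : V} (hv : v ∈ R.L i) :
    v + R.ρ (aX (gv i)) v + R.ρ (aX (gv i + gv i)) v = 0 := by
  rw [← (hv : R.P i v = v), P, ← R.Φ_delta (gv i), ← R.Φ_delta (gv i + gv i), R.Φ_mul, R.Φ_mul]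
  simp only [Φ, ← Finset.sum_add_distrib, ← add_smul]
  refine (R.Φ_congr (g := fun _ => 0) (fun w => ?_) v).trans (by simp [Φ])
  have key : ∀ a : ZMod 3, ((if a = 0 then (0 : ℕ) else 1) + (if a - 1 = 0 then 0 else 1) +
      (if a - (1 + 1) = 0 then 0 else 1)) % 2 = 0 := by decide
  simp only [ite_mul, one_mul, zero_mul, Finset.sum_ite_eq', Finset.mem_univ, if_true, ind, if_neg hi, dot_sub,
    dot_add, dot_gv i hi]
  exact key _

theorem act_ne {i : Fin 14} (hi : i.val ≠ 13) {v : V} (hv : v ∈ R.L i) (h0 : v ≠ 0) {x : X} (hx : dot i x ≠ 0) :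
    R.ρ (aX x) v ≠ v := by
  intro e
  have e2 : R.ρ (aX (x + x)) v = v := by rw [aX_add, R.ρ_mul, e, e]
  have hc : R.ρ (aX (gv i)) v = v ∧ R.ρ (aX (gv i + gv i)) v = v := by
    rcases (show ∀ a : ZMod 3, a ≠ 0 → a = 1 ∨ a = 1 + 1 by decide) _ hx with h | h
    · refine ⟨?_, ?_⟩
      · rw [R.act_eq hv (y := x) (by rw [dot_gv i hi, h]), e]
      · rw [R.act_eq hv (y := x + x) (by rw [dot_add, dot_add, dot_gv i hi, h]), e2]
    · refine ⟨?_, ?_⟩
      · rw [R.act_eq hv (y := x + x) (by rw [dot_add, dot_gv i hi, h]; decide), e2]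
      · rw [R.act_eq hv (y := x) (by rw [dot_add, dot_gv i hi, h]), e]
  have h3 := R.sum_three hi hv
  rw [hc.1, hc.2, R.two, zero_add] at h3
  exact h0 h3

theorem eq_zero_of_fixed {i : Fin 14} (hi : i.val ≠ 13) {x : X} (hx : dot i x ≠ 0) {v : V}
    (hv : R.ρ (aX x) v = v) : R.P i v = 0 := by
  by_contra h0
  exact R.act_ne hi (R.P_mem i v) h0 hx (by rw [← R.act_P, hv])

theorem fixed_mem {v : V} (hv : ∀ x, R.ρ (aX x) v = v) : v ∈ R.L 13 := by
  show R.Φ (ind 13) v = v
  have h1 : ∀ x : X, ind 13 x = 1 := fun x => rfl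
  simp only [Φ, h1, one_smul, hv, Finset.sum_const]
  rw [R.nsmul_mod]
  rw [show Finset.univ.card % 2 = 1 from rfl, one_smul]

/-! ### Orders of the weight spaces -/

/-- The decomposition. -/
noncomputable def decomp : V ≃ ((i : Fin 14) → R.L i) where
  toFun v i := ⟨R.P i v, R.P_mem i v⟩
  invFun w := ∑ i, (w i : V)
  left_inv v := R.P_sum v
  right_inv w := funext fun i => Subtype.ext (by
    show R.P i (∑ j, (w j : V)) = w i
    have : ∀ s : Finset (Fin 14), R.P i (∑ j ∈ s, (w j : V)) = ∑ j ∈ s, R.P i (w j) := fun s => by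
      classical
      induction s using Finset.induction_on with
      | empty => simp [R.P_zero]
      | @insert a s ha ih => rw [Finset.sum_insert ha, Finset.sum_insert ha, R.P_add, ih]
    rw [this, Finset.sum_eq_single i (fun j _ hj => R.P_other (Ne.symm hj) (w j).2) (by simp)]
    exact (w i).2)

theorem card_prod : ∏ i, Nat.card (R.L i) = 256 := by
  rw [← Nat.card_pi, ← Nat.card_congr R.decomp, R.card]

theorem mono_mem (g : Fin 3) {i : Fin 14} {v : V} (hv : v ∈ R.L i) :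
    R.ρ (ev [3 + g.val]) v ∈ R.L (pm g i) := by
  show R.P (pm g i) (R.ρ (ev [3 + g.val]) v) = R.ρ (ev [3 + g.val]) v
  conv_rhs => rw [← (hv : R.P i v = v)]
  simp only [P, Φ, map_sum, map_nsmul, ← R.ρ_mul, cm_conj]
  refine Fintype.sum_equiv ⟨cm g, cm g, cm_cm g, cm_cm g⟩ _ _ fun x => ?_
  show _ = ind i (cm g x) • R.ρ (aX (cm g (cm g x)) * ev [3 + g.val]) v
  rw [cm_cm, ind_pm]

theorem mono_invol (g : Fin 3) (v : V) : R.ρ (ev [3 + g.val]) (R.ρ (ev [3 + g.val]) v) = v := by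
  rw [← R.ρ_mul, mono_mul, R.ρ_one]

theorem card_pm (g : Fin 3) (i : Fin 14) : Nat.card (R.L (pm g i)) = Nat.card (R.L i) := by
  refine Nat.card_congr
    ⟨fun v => ⟨R.ρ (ev [3 + g.val]) v, by simpa [pm_pm] using R.mono_mem g v.2⟩,
      fun v => ⟨R.ρ (ev [3 + g.val]) v, R.mono_mem g v.2⟩,
      fun v => Subtype.ext (R.mono_invol g v), fun v => Subtype.ext (R.mono_invol g v)⟩

theorem card_L (i : Fin 14) (hi : i.val ≠ 13) : Nat.card (R.L i) = 1 ∨ 4 ≤ Nat.card (R.L i) := by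
  have := R.finite
  by_cases h : ∀ v ∈ R.L i, v = (0 : V)
  · left
    rw [Nat.card_eq_one_iff_unique]
    exact ⟨⟨fun a b => Subtype.ext ((h a a.2).trans (h b b.2).symm)⟩, ⟨0⟩⟩
  push Not at h
  obtain ⟨v, hv, h0⟩ := h
  right
  have hd : dot i (gv i) ≠ 0 := by rw [dot_gv i hi]; decide
  have hd2 : dot i (gv i + gv i) ≠ 0 := by rw [dot_add, dot_gv i hi]; decide
  have hv1 := R.act_mem (gv i) hv
  have hv2 := R.act_mem (gv i + gv i) hv
  have hw0 : R.ρ (aX (gv i)) v ≠ 0 := fun e => h0 (R.ρ_inj (aX (gv i)) (by rw [e, map_zero]))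
  have h12 : R.ρ (aX (gv i)) v ≠ R.ρ (aX (gv i + gv i)) v := fun e => by
    rw [aX_add, R.ρ_mul] at e
    exact R.act_ne hi hv1 hw0 hd e.symm
  have hn2 : R.ρ (aX (gv i + gv i)) v ≠ 0 := fun e => h0 (R.ρ_inj (aX (gv i + gv i)) (by rw [e, map_zero]))
  let f : Fin 4 → R.L i := ![0, ⟨v, hv⟩, ⟨_, hv1⟩, ⟨_, hv2⟩]
  have hf : Function.Injective f := by
    intro a b e
    have a1 := R.act_ne hi hv h0 hd
    have a2 := R.act_ne hi hv h0 hd2
    fin_cases a <;> fin_cases b <;>
      simp [f, Subtype.ext_iff, h0, Ne.symm h0, hw0, Ne.symm hw0, hn2, Ne.symm hn2, h12, Ne.symm h12, a1, Ne.symm a1,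
        a2, Ne.symm a2] at e ⊢
  simpa using Nat.card_le_card_of_injective f hf

theorem shapes : ((∀ i : Fin 14, i.val < 4 → Nat.card (R.L i) = 4) ∧ ∀ i : Fin 14, 4 ≤ i.val → Nat.card (R.L i) = 1) ∨
    (∀ i : Fin 14, (10 ≤ i.val → Nat.card (R.L i) = 4) ∧ (i.val < 10 → Nat.card (R.L i) = 1)) := by
  have := R.finite
  have e1 : Nat.card (R.L 1) = Nat.card (R.L 0) := R.card_pm 0 0
  have e2 : Nat.card (R.L 2) = Nat.card (R.L 0) := (R.card_pm 1 1).trans e1
  have e3 : Nat.card (R.L 3) = Nat.card (R.L 0) := (R.card_pm 2 2).trans e2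
  have e5 : Nat.card (R.L 5) = Nat.card (R.L 4) := R.card_pm 0 4
  have e6 : Nat.card (R.L 6) = Nat.card (R.L 4) := R.card_pm 2 4
  have e7 : Nat.card (R.L 7) = Nat.card (R.L 4) := (R.card_pm 1 5).trans e5
  have e8 : Nat.card (R.L 8) = Nat.card (R.L 4) := (R.card_pm 2 5).trans e5
  have e9 : Nat.card (R.L 9) = Nat.card (R.L 4) := (R.card_pm 1 6).trans e6
  have e11 : Nat.card (R.L 11) = Nat.card (R.L 10) := R.card_pm 0 10
  have e12 : Nat.card (R.L 12) = Nat.card (R.L 10) := (R.card_pm 1 11).trans e11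
  have hp : Nat.card (R.L 0) ^ 4 * Nat.card (R.L 4) ^ 6 * Nat.card (R.L 10) ^ 3 * Nat.card (R.L 13) = 256 := by
    rw [← R.card_prod]
    simp only [Fin.prod_univ_succ, Fin.prod_univ_zero]
    show _ = Nat.card (R.L 0) * (Nat.card (R.L 1) * (Nat.card (R.L 2) * (Nat.card (R.L 3) * (Nat.card (R.L 4) *
      (Nat.card (R.L 5) * (Nat.card (R.L 6) * (Nat.card (R.L 7) * (Nat.card (R.L 8) * (Nat.card (R.L 9) *
      (Nat.card (R.L 10) * (Nat.card (R.L 11) * (Nat.card (R.L 12) * (Nat.card (R.L 13) * 1)))))))))))))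
    rw [e1, e2, e3, e5, e6, e7, e8, e9, e11, e12]
    ring
  have hc : 1 ≤ Nat.card (R.L 13) := Nat.card_pos
  have hdvd : Nat.card (R.L 10) ^ 3 ∣ 256 := ⟨Nat.card (R.L 0) ^ 4 * Nat.card (R.L 4) ^ 6 * Nat.card (R.L 13), by rw [← hp]; ring⟩
  have hall : ∀ i : Fin 14, Nat.card (R.L i) = if i.val < 4 then Nat.card (R.L 0) else
      if i.val < 10 then Nat.card (R.L 4) else if i.val < 13 then Nat.card (R.L 10) else Nat.card (R.L 13) := by
    intro i
    match i with
    | 0 => rfl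
    | 1 => exact e1
    | 2 => exact e2
    | 3 => exact e3
    | 4 => rfl
    | 5 => exact e5
    | 6 => exact e6
    | 7 => exact e7
    | 8 => exact e8
    | 9 => exact e9
    | 10 => rfl
    | 11 => exact e11
    | 12 => exact e12
    | 13 => rfl
  set a := Nat.card (R.L 0)
  set b := Nat.card (R.L 4)
  set c := Nat.card (R.L 10)
  set d := Nat.card (R.L 13) with hdd
  have ha : a = 1 ∨ 4 ≤ a := R.card_L 0 (by decide)
  have hb : b = 1 ∨ 4 ≤ b := R.card_L 4 (by decide)
  have hc10 : c = 1 ∨ 4 ≤ c := R.card_L 10 (by decide)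
  have hb1 : b = 1 := by
    rcases hb with h | h
    · exact h
    · exfalso
      have h1 : 1 ≤ a ^ 4 := Nat.one_le_pow _ _ (by omega)
      have h2 : 4 ^ 6 ≤ b ^ 6 := Nat.pow_le_pow_left h 6
      have h3 : 1 ≤ c ^ 3 := Nat.one_le_pow _ _ (by omega)
      have := Nat.mul_le_mul (Nat.mul_le_mul (Nat.mul_le_mul h1 h2) h3) hc
      omega
  rw [hb1, one_pow, mul_one] at hp
  rcases ha with ha | ha
  · rw [ha, one_pow, one_mul] at hp
    rcases hc10 with hc1 | hc1
    · exfalso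
      rw [hc1, one_pow, one_mul] at hp
      have htop : ∀ v : V, v ∈ R.L 13 := by
        have h := AddSubgroup.eq_top_of_card_eq (R.L 13) (by rw [← hdd, hp, R.card])
        intro v; rw [h]; exact AddSubgroup.mem_top v
      refine aX_ne_one (x := ((1, 0, 0) : X)) (by decide) (R.faithful _ fun v => ?_)
      exact R.act_triv (htop v) (by decide)
    · have hc4 : c = 4 := by
        by_contra hne
        have h5 : 5 ^ 3 ≤ c ^ 3 := Nat.pow_le_pow_left (by omega) 3
        have hle := Nat.le_of_dvd (by norm_num) hdvd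
        have hc7 : c < 7 := by
          by_contra h7
          have := Nat.pow_le_pow_left (show 7 ≤ c by omega) 3
          omega
        interval_cases c <;> first | omega | norm_num at hdvd
      have hd4 : d = 4 := by rw [hc4] at hp; omega
      right
      refine fun i => ⟨fun h => ?_, fun h => ?_⟩
      · rw [hall, if_neg (by omega), if_neg (by omega)]; split <;> omega
      · rw [hall]; split
        · exact ha
        · exact hb1
  · left
    have h1 : 4 ^ 4 ≤ a ^ 4 := Nat.pow_le_pow_left ha 4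
    have h3 : 1 ≤ c ^ 3 := Nat.one_le_pow _ _ (by omega)
    have ha4 : a = 4 := by
      by_contra hne
      have := Nat.mul_le_mul (Nat.mul_le_mul (Nat.pow_le_pow_left (show 5 ≤ a by omega) 4) h3) hc
      omega
    rw [ha4] at hp
    have hcd : c ^ 3 * d = 1 := by rw [mul_assoc] at hp; omega
    have hd1 : d = 1 := Nat.eq_one_of_mul_eq_one_left hcd
    have hc1 : c = 1 := (Nat.pow_eq_one.1 (Nat.eq_one_of_mul_eq_one_right hcd)).resolve_right (by norm_num)
    refine ⟨fun i h => ?_, fun i h => ?_⟩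
    · rw [hall, if_pos h]; exact ha4
    · rw [hall, if_neg (by omega)]; split
      · exact hb1
      · split <;> assumption

end Rep

end CfsgLib.U6Large.Shape
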